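import Cfsg.Prelude.Def_ChevB2
import Cfsg.Agent.Chev.Cert

/-! Packed tables of `chevB2`; computed from the frozen tables and checked by the kernel. -/

set_option autoImplicit false

namespace Cfsg.Agent.Chev

open Cfsg.Lie

/-- Packed columns of `chevB2`. -/
def b2Cols : Tr :=
.node (.node (.node (.leaf 830345072169311225760222131124541532287946015586895682013929332051558131925264385)
 (.leaf 248651588111130350826213880147582053703523528162481489558128310750291973)) (.node (.leaf 233791131744166418616614294115127830454836656788677680551003516867867179283400039377859204098051)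
 (.leaf 165857591896311619510955598749969701875575125336477888543145439201853440))) (.node (.node (.leaf 300507115025761391255692096419943492997961243271279043888939925588406434141178986297991136018432)
 (.leaf 1186637330504019322780969493564072740175546099852617067807383033174874858478114822)) (.node (.leaf 1067834646946529954196171623750119886225295623157360410354910235656304657260615684)
 (.leaf 2441525983388375590056258529610599227201544)))

/-- Cartan integers of `chevB2`. -/
def b2Car : Tr :=
.node (.node (.node (.leaf 2054)
 (.leaf 2566)) (.node (.leaf 2310)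
 (.leaf 2312))) (.node (.node (.leaf 1800)
 (.leaf 1802)) (.node (.leaf 1546)
 (.leaf 2058)))

/-- Coroots of `chevB2`. -/
def b2Cor : Tr :=
.node (.node (.node (.leaf 3855)
 (.leaf 4368)) (.node (.leaf 4111)
 (.leaf 4625))) (.node (.node (.leaf 3599)
 (.leaf 4113)) (.node (.leaf 3856)
 (.leaf 4369)))

/-- Reflections of `chevB2`. -/
def b2Refl : Tr :=
.node (.leaf 46731701698971039892678956772687879)
 (.leaf 72693027543782482672257827036528640)

/-- Steps of `chevB2`. -/
def b2Step : Tr :=
.node (.node (.node (.leaf 769)
 (.leaf 257)) (.node (.leaf 513)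
 (.leaf 0))) (.node (.node (.leaf 770)
 (.leaf 258)) (.node (.leaf 514)
 (.leaf 0)))

/-- Steps for pairs starting at the root 6. -/
def b2Pair0 : Tr :=
.node (.node (.node (.leaf 257)
 (.leaf 257)) (.node (.leaf 257)
 (.leaf 0))) (.node (.node (.leaf 0)
 (.leaf 0)) (.node (.leaf 0)
 (.leaf 0)))

/-- Steps for pairs starting at the root 7. -/
def b2Pair1 : Tr :=
.node (.node (.node (.leaf 0)
 (.leaf 0)) (.node (.leaf 0)
 (.leaf 0))) (.node (.node (.leaf 258)
 (.leaf 258)) (.node (.leaf 258)
 (.leaf 0)))

/-- The certificate of `chevB2`. -/
def b2Cert : Cert where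
  T := ⟨2, 32, 4294967296, b2Cols⟩
  car := b2Car
  cor := b2Cor
  refl := b2Refl
  step := b2Step
  pairStep := [(6, b2Pair0), (7, b2Pair1)]
  longest := [0, 1, 0, 1]

end Cfsg.Agent.Chev
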